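import Groth.Agent.W4c3wronskmg.K819.Net
import Mathlib.Data.Nat.Choose.Basic
import Mathlib.Tactic.Module

set_option autoImplicit false

open Polynomial

namespace K819.Wr

variable {k : Type*} [Field k] [CharZero k]

/-- A solution of a second order equation regular at `c` with a zero of order `m ≥ 2` has a zero of
order `m + 1`. -/
theorem dvd_of_ode (u v w y : k[X]) (c : k) (hu : u.eval c ≠ 0)
    (h : u * derivative (derivative y) + v * derivative y + w * y = 0) (m : ℕ) 
    (hm : (X - C c) ^ (m + 2) ∣ y) : (X - C c) ^ (m + 3) ∣ y := by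
  obtain ⟨g, hg⟩ := hm
  have hX : (X - C c) ^ m ≠ 0 := pow_ne_zero _ (X_sub_C_ne_zero c)
  have h1 : (X - C c) ∣ u * (((m + 2 : ℕ) : k[X]) * ((m + 1 : ℕ) : k[X]) * g) := by
    refine ⟨-(u * (2 * ((m + 2 : ℕ) : k[X]) * derivative g + (X - C c) * derivative (derivative g)) +
      v * (((m + 2 : ℕ) : k[X]) * g + (X - C c) * derivative g) + w * (X - C c) * g), ?_⟩
    apply mul_left_cancel₀ hX
    rw [hg] at h
    simp only [derivative_mul, derivative_add, derivative_X_sub_C_pow, Nat.add_sub_cancel,
      derivative_C, map_natCast] at h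
    have e1 : (m + 2 - 1) = m + 1 := by omega
    rw [e1] at h
    simp only [derivative_X_sub_C_pow, derivative_natCast, Nat.add_sub_cancel, map_natCast] at h
    linear_combination h
  rw [dvd_iff_isRoot, IsRoot, eval_mul, eval_mul, eval_mul, eval_natCast, eval_natCast] at h1
  have h2 : g.eval c = 0 := by
    have ha : ((m + 2 : ℕ) : k) ≠ 0 := Nat.cast_ne_zero.mpr (by omega)
    have hb : ((m + 1 : ℕ) : k) ≠ 0 := Nat.cast_ne_zero.mpr (by omega)
    rcases mul_eq_zero.mp h1 with h3 | h3
    · exact absurd h3 hu
    · rcases mul_eq_zero.mp h3 with h4 | h4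
      · exact absurd h4 (mul_ne_zero ha hb)
      · exact h4
  obtain ⟨g', hg'⟩ := dvd_iff_isRoot.mpr h2
  exact ⟨g', by rw [hg, hg']; ring⟩

/-- Hence a nonzero solution has only simple zeros at regular points. -/
theorem rootMultiplicity_le_one (u v w y : k[X]) (c : k) (hu : u.eval c ≠ 0)
    (h : u * derivative (derivative y) + v * derivative y + w * y = 0) :
    y.rootMultiplicity c ≤ 1 := by
  by_contra hcon
  have hy : y ≠ 0 := by
    rintro rfl
    simp at hcon
  obtain ⟨m, hm⟩ : ∃ m, y.rootMultiplicity c = m + 2 := ⟨y.rootMultiplicity c - 2, by omega⟩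
  have h1 : (X - C c) ^ (m + 2) ∣ y := by rw [← hm]; exact pow_rootMultiplicity_dvd y c
  have h2 := dvd_of_ode u v w y c hu h m h1
  have h3 := (le_rootMultiplicity_iff hy).mpr h2
  omega

omit [CharZero k] in
theorem choose_succ (n m : ℕ) : ((n.choose (m + 1) : ℕ) : k) * ((m : k) + 1) =
    ((n.choose m : ℕ) : k) * ((n : k) - m) := by
  rcases le_or_gt m n with h | h
  · have := Nat.choose_succ_right_eq n m
    have h1 := congrArg (Nat.cast (R := k)) this
    push_cast [Nat.cast_sub h] at h1
    exact h1
  · rw [Nat.choose_eq_zero_of_lt h, Nat.choose_eq_zero_of_lt (by omega)]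
    simp

/-- the hypergeometric polynomial -/
noncomputable def hyp (k : Type*) [Field k] (i j n : ℕ) : k[X] :=
  ∑ m ∈ Finset.range (n + 1), C (((i.choose (n - m)) * (j.choose m) : ℕ) : k) * X ^ m

omit [CharZero k] in
theorem coeff_hyp (i j n m : ℕ) : (hyp k i j n).coeff m =
    if m ≤ n then (((i.choose (n - m)) * (j.choose m) : ℕ) : k) else 0 := by
  rw [hyp, finsetSum_coeff]
  simp only [coeff_C_mul, coeff_X_pow]
  by_cases hm : m ≤ n
  · rw [if_pos hm, Finset.sum_eq_single m]
    · simp
    · intro b _ hb; rw [if_neg (Ne.symm hb), mul_zero]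
    · intro h; exact absurd (Finset.mem_range.mpr (by omega)) h
  · rw [if_neg hm]
    refine Finset.sum_eq_zero fun b hb => ?_
    have := Finset.mem_range.mp hb
    rw [if_neg (by omega), mul_zero]

omit [CharZero k] in
theorem hyp_rec (i j n m : ℕ) : (hyp k i j n).coeff (m + 1) * ((m : k) + 1) * ((m : k) + 1 + i - n) =
    (hyp k i j n).coeff m * ((m : k) - n) * ((m : k) - j) := by
  rw [coeff_hyp, coeff_hyp]
  rcases lt_trichotomy m n with h | h | h
  · rw [if_pos (by omega : m + 1 ≤ n), if_pos h.le]
    obtain ⟨p, rfl⟩ : ∃ p, n = m + 1 + p := ⟨n - (m + 1), by omega⟩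
    have e1 : m + 1 + p - (m + 1) = p := by omega
    have e2 : m + 1 + p - m = p + 1 := by omega
    rw [e1, e2]
    have h1 := choose_succ (k := k) j m
    have h2 := choose_succ (k := k) i p
    push_cast
    linear_combination ((i.choose p : ℕ) : k) * ((i : k) - p) * h1 - ((j.choose m : ℕ) : k) * ((j : k) - m) * h2
  · subst h
    rw [if_neg (by omega)]
    simp
  · rw [if_neg (by omega), if_neg (by omega)]
    simp

omit [CharZero k] in
theorem hyp_ode (i j n : ℕ) :
    (X * (1 - X)) * derivative (derivative (hyp k i j n)) +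
      (C (1 + (i : k) - n) - C (1 - (n : k) - j) * X) * derivative (hyp k i j n) +
      (- C ((n : k) * j)) * hyp k i j n = 0 := by
  have e : (X * (1 - X)) * derivative (derivative (hyp k i j n)) +
      (C (1 + (i : k) - n) - C (1 - (n : k) - j) * X) * derivative (hyp k i j n) +
      (- C ((n : k) * j)) * hyp k i j n =
      X * derivative (derivative (hyp k i j n)) - X * (X * derivative (derivative (hyp k i j n))) +
      C (1 + (i : k) - n) * derivative (hyp k i j n) - C (1 - (n : k) - j) * (X * derivative (hyp k i j n))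
      - C ((n : k) * j) * hyp k i j n := by ring
  rw [e]
  ext m
  simp only [coeff_sub, coeff_add, coeff_C_mul, coeff_zero]
  have hr := hyp_rec (k := k) i j n m
  rcases m with _ | _ | m
  · simp only [coeff_X_mul_zero, mul_zero, coeff_derivative]
    simp only [Nat.cast_zero, zero_add] at hr ⊢
    linear_combination hr
  · simp only [coeff_X_mul, coeff_X_mul_zero, coeff_derivative]
    push_cast at hr ⊢
    linear_combination hr
  · simp only [coeff_X_mul, coeff_derivative]
    push_cast at hr ⊢
    linear_combination hr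

end K819.Wr
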