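import Groth.Agent.W4c3wronskmg.K819.Net
import Mathlib.Algebra.Polynomial.Coeff
import Mathlib.RingTheory.Ideal.Span

set_option autoImplicit false

open Polynomial

namespace K819.Wr

variable {k : Type*} [Field k] [CharZero k]

/-- Solve `X K' - a K = g` when `g` has no term in degree `a`. -/
theorem exists_solve_zero (a N : ℕ) (g : k[X]) (hg : g.natDegree ≤ N) (hga : g.coeff a = 0) :
    ∃ K : k[X], K.natDegree ≤ N ∧ D X (-(a : k[X])) K = g := by
  refine ⟨∑ m ∈ Finset.range (N + 1), C (g.coeff m / ((m : k) - a)) * X ^ m, ?_, ?_⟩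
  · refine natDegree_sum_le_of_forall_le _ _ fun m hm => ?_
    refine (natDegree_C_mul_X_pow_le _ _).trans ?_
    have := Finset.mem_range.mp hm
    omega
  · rw [map_sum]
    have hsum : g = ∑ m ∈ Finset.range (N + 1), C (g.coeff m) * X ^ m := by
      conv_lhs => rw [g.as_sum_range_C_mul_X_pow' (Nat.lt_succ_of_le hg)]
    conv_rhs => rw [hsum]
    refine Finset.sum_congr rfl fun m _ => ?_
    rw [D_apply, derivative_C_mul_X_pow]
    by_cases hma : m = a
    · subst hma
      rw [hga]; simp
    · have hne : ((m : k) - a) ≠ 0 := by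
        rw [sub_ne_zero]; exact_mod_cast hma
      have e1 : C (g.coeff m / ((m : k) - a)) * ((m : k[X]) - (a : k[X])) = C (g.coeff m) := by
        rw [← map_natCast C, ← map_natCast C, ← map_sub, ← map_mul, div_mul_cancel₀ _ hne]
      have e2 : X * (C (g.coeff m / ((m : k) - a) * (m : k)) * X ^ (m - 1)) =
          C (g.coeff m / ((m : k) - a)) * (m : k[X]) * X ^ m := by
        rw [map_mul, map_natCast]
        cases m with
        | zero => simp
        | succ m => rw [Nat.add_sub_cancel]; ring
      rw [e2, ← e1]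
      ring

/-- Lifting the system `V` of S16260 through the operator `D`. -/
theorem exists_prim (a b : ℕ)
    (V : Submodule k (Polynomial k))
    (hV : V = ((Ideal.span {(X : Polynomial k) ^ (a + 1)}).restrictScalars k ⊓ Polynomial.degreeLE k ↑(a + b)) ⊔
      ((Ideal.span {((X : Polynomial k) - 1) ^ (b + 1)}).restrictScalars k ⊓ Polynomial.degreeLE k ↑(a + b)) ⊔
      Submodule.span k {(X : Polynomial k) ^ (a + 1) * (X - 1) ^ (b + 1)})
    (f : k[X]) (hf : f ∈ V) :
    ∃ G : k[X], G.natDegree ≤ a + b + 1 ∧ D (X * (X - 1)) ((a : k[X]) - ((a + b : ℕ) : k[X]) * X) G = f := by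
  -- the set of `f` with this property is a submodule
  let S : Submodule k k[X] :=
    Submodule.map (D (X * (X - 1)) ((a : k[X]) - ((a + b : ℕ) : k[X]) * X))
      (Polynomial.degreeLE k ↑(a + b + 1))
  have hdegX1 : ((X : k[X]) - 1).natDegree = 1 := by
    rw [← C_1]; exact natDegree_X_sub_C 1
  suffices hVS : V ≤ S by
    obtain ⟨G, hG, hG'⟩ := hVS hf
    exact ⟨G, natDegree_le_of_degree_le (mem_degreeLE.mp hG), hG'⟩
  rw [hV]
  refine sup_le (sup_le ?_ ?_) ?_
  · rintro f ⟨hf1, hf2⟩
    have hf1' : (X : k[X]) ^ (a + 1) ∣ f := Ideal.mem_span_singleton.mp hf1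
    obtain ⟨f', rfl⟩ := hf1'
    have hf2' : ((X : k[X]) ^ (a + 1) * f').degree ≤ (a + b : ℕ) := mem_degreeLE.mp hf2
    have hdeg : f'.degree < (b : ℕ) := by
      by_cases h0 : f' = 0
      · rw [h0, degree_zero]; exact WithBot.bot_lt_coe _
      · have h1 := natDegree_le_of_degree_le hf2'
        rw [natDegree_mul (pow_ne_zero _ X_ne_zero) h0, natDegree_X_pow] at h1
        rw [degree_eq_natDegree h0]
        exact_mod_cast (by omega : f'.natDegree < b)
    obtain ⟨G, hG, hG'⟩ := exists_solve (1 : k) b b le_rfl f' hdeg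
    refine ⟨X ^ a * G, mem_degreeLE.mpr ?_, ?_⟩
    · refine degree_le_of_natDegree_le (natDegree_mul_le.trans ?_)
      rw [natDegree_X_pow]
      have h1 : G.natDegree ≤ b := natDegree_le_of_degree_le hG.le
      omega
    · rw [D_apply, ← hG', derivative_mul, derivative_X_pow, C_1]
      have e1 : (X : k[X]) * (C (a : k) * X ^ (a - 1)) = (a : k[X]) * X ^ a := by
        cases a with
        | zero => simp
        | succ a => rw [Nat.add_sub_cancel, map_natCast]; ring
      push_cast
      linear_combination (X - 1) * G * e1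
  · rintro f ⟨hf1, hf2⟩
    have hf1' : ((X : k[X]) - 1) ^ (b + 1) ∣ f := Ideal.mem_span_singleton.mp hf1
    obtain ⟨f', rfl⟩ := hf1'
    have hf2' : (((X : k[X]) - 1) ^ (b + 1) * f').degree ≤ (a + b : ℕ) := mem_degreeLE.mp hf2
    have hne : ((X : k[X]) - 1) ≠ 0 := by rw [← C_1]; exact X_sub_C_ne_zero 1
    have hdeg : f'.degree < (a : ℕ) := by
      by_cases h0 : f' = 0
      · rw [h0, degree_zero]; exact WithBot.bot_lt_coe _
      · have h1 := natDegree_le_of_degree_le hf2'
        rw [natDegree_mul (pow_ne_zero _ hne) h0, natDegree_pow, hdegX1] at h1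
        rw [degree_eq_natDegree h0]
        exact_mod_cast (by omega : f'.natDegree < a)
    obtain ⟨G, hG, hG'⟩ := exists_solve (0 : k) a a le_rfl f' hdeg
    refine ⟨(X - 1) ^ b * G, mem_degreeLE.mpr ?_, ?_⟩
    · refine degree_le_of_natDegree_le (natDegree_mul_le.trans ?_)
      rw [natDegree_pow, hdegX1]
      have h1 : G.natDegree ≤ a := natDegree_le_of_degree_le hG.le
      omega
    · rw [D_apply, ← hG', derivative_mul, C_0, sub_zero]
      have e1 : ((X : k[X]) - 1) * derivative (((X : k[X]) - 1) ^ b) = (b : k[X]) * (X - 1) ^ b := by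
        have : ((X : k[X]) - 1) = X - C 1 := by rw [C_1]
        rw [this, derivative_X_sub_C_pow]
        cases b with
        | zero => simp
        | succ b => rw [Nat.add_sub_cancel, map_natCast]; ring
      push_cast
      linear_combination X * G * e1
  · rw [Submodule.span_singleton_le_iff_mem]
    refine ⟨X ^ (a + 1) * (X - 1) ^ b, mem_degreeLE.mpr ?_, ?_⟩
    · refine degree_le_of_natDegree_le (natDegree_mul_le.trans ?_)
      rw [natDegree_pow, natDegree_pow, hdegX1, natDegree_X]
      omega
    · rw [D_apply, derivative_mul, derivative_X_pow]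
      have e1 : ((X : k[X]) - 1) * derivative (((X : k[X]) - 1) ^ b) = (b : k[X]) * (X - 1) ^ b := by
        have : ((X : k[X]) - 1) = X - C 1 := by rw [C_1]
        rw [this, derivative_X_sub_C_pow]
        cases b with
        | zero => simp
        | succ b => rw [Nat.add_sub_cancel, map_natCast]; ring
      rw [Nat.add_sub_cancel, map_natCast]
      push_cast
      linear_combination X ^ (a + 2) * e1

/-- The kernel element. -/
theorem D_ker (a b : ℕ) : D (X * (X - 1)) ((a : k[X]) - ((a + b : ℕ) : k[X]) * X)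
    (X ^ a * (X - 1) ^ b) = 0 := by
  rw [D_apply, derivative_mul, derivative_X_pow]
  have e1 : ((X : k[X]) - 1) * derivative (((X : k[X]) - 1) ^ b) = (b : k[X]) * (X - 1) ^ b := by
    have : ((X : k[X]) - 1) = X - C 1 := by rw [C_1]
    rw [this, derivative_X_sub_C_pow]
    cases b with
    | zero => simp
    | succ b => rw [Nat.add_sub_cancel, map_natCast]; ring
  have e2 : (X : k[X]) * (C (a : k) * X ^ (a - 1)) = (a : k[X]) * X ^ a := by
    cases a with
    | zero => simp
    | succ a => rw [Nat.add_sub_cancel, map_natCast]; ring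
  push_cast
  linear_combination X ^ (a + 1) * e1 + (X - 1) * (X - 1) ^ b * e2

end K819.Wr
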