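import Groth.Agent.W4c3wronskmg.K819.Sing

set_option autoImplicit false

open Polynomial

namespace K819.Wr

variable {k : Type*} [Field k] [CharZero k]

theorem tail_arg (a b i j : ℕ) (hi : 0 < i) (hj : i + j = a + b + 2) (hia : i ≤ a) (q : k) (s : k[X])
    (hsdeg : s.natDegree ≤ a + b + 1)
    (hq0 : q ≠ 0) (h4 : s.coeff (a + b + 1) = 0)
    (h5 : (X : k[X]) ^ (i - 1) ∣ s) (h6 : (X - C q) ^ (j - 1 + 1) ∣ s) : s = 0 := by
  have hcop : IsCoprime ((X : k[X]) ^ (i - 1)) ((X - C q) ^ (j - 1 + 1)) := by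
    refine IsCoprime.pow ?_
    have := isCoprime_X_sub_C_of_isUnit_sub (R := k) (a := 0) (b := q) (by simpa using hq0)
    simpa using this
  by_contra h7
  have h8 := natDegree_le_of_dvd (hcop.mul_dvd h5 h6) h7
  rw [natDegree_mul (pow_ne_zero _ X_ne_zero) (pow_ne_zero _ (X_sub_C_ne_zero q)),
    natDegree_pow, natDegree_pow, natDegree_X_sub_C, natDegree_X] at h8
  have h9 : s.natDegree = a + b + 1 := by omega
  rw [← h9, coeff_natDegree, leadingCoeff_eq_zero] at h4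
  exact h7 h4

theorem false_of_general (a b i j : ℕ) (hia : i ≤ a) (hi : 0 < i) (hj : i + j = a + b + 2) (q : k)
    (hq0 : q ≠ 0) (hq1 : q ≠ 1) (G : Fin 3 → k[X]) (hdeg : ∀ l, (G l).natDegree ≤ a + b + 1)
    (hind : ∀ c : Fin 3 → k, ∑ l, c l • G l = 0 → c = 0)
    (hdv : ∀ l, (X : k[X]) ^ (i - 1) * (X - C q) ^ (j - 1) ∣ Dab k a b (G l)) : False := by
  have hev : ((X : k[X]) * (X - 1)).eval q ≠ 0 := by
    simp only [eval_mul, eval_X, eval_sub, eval_one]
    exact mul_ne_zero hq0 (sub_ne_zero.mpr hq1)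
  obtain ⟨c, hc, h3, h4⟩ := exists_combination G (Polynomial.leval q) (Polynomial.lcoeff k (a + b + 1))
  refine hc (hind c ?_)
  have hDs := dvd_sum _ _ _ _ hdv c
  have hsdeg := K819.Wr.natDegree_sum_le G (a + b + 1) hdeg c
  refine tail_arg a b i j hi hj hia q _ hsdeg hq0 h4 ?_ ?_
  · exact zero_dvd_of_le a b (i - 1) (by omega) _ ((dvd_mul_right _ _).trans hDs)
  · have h7 : (X - C q) ^ (j - 1) ∣ D (X * (X - 1)) ((a : k[X]) - ((a + b : ℕ) : k[X]) * X)
        (∑ l, c l • G l) := (dvd_mul_left _ _).trans hDs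
    rw [D_apply] at h7
    exact dvd_of_dvd_D (X * (X - 1)) ((a : k[X]) - ((a + b : ℕ) : k[X]) * X) _ q hev h3 (j - 1) h7

end K819.Wr
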