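import Groth.Agent.W4c3wronskmg.K819.Basic

set_option autoImplicit false

open Polynomial

namespace K819.Wr

variable {k : Type*} [Field k] [CharZero k]

/-- The first order operator `G ↦ u G' + v G`. -/
noncomputable def D (u v : k[X]) : k[X] →ₗ[k] k[X] :=
  LinearMap.mulLeft k u ∘ₗ Polynomial.derivative + LinearMap.mulLeft k v

omit [CharZero k] in
theorem D_apply (u v G : k[X]) : D u v G = u * derivative G + v * G := rfl

omit [CharZero k] in
theorem natDegree_sum_le (G : Fin 3 → k[X]) (N : ℕ) (h : ∀ i, (G i).natDegree ≤ N) (c : Fin 3 → k) :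
    (∑ i, c i • G i).natDegree ≤ N := by
  refine natDegree_sum_le_of_forall_le _ _ fun i _ => ?_
  exact (natDegree_smul_le _ _).trans (h i)

omit [CharZero k] in
theorem dvd_sum (u v : k[X]) (G : Fin 3 → k[X]) (w : k[X]) (h : ∀ i, w ∣ D u v (G i)) (c : Fin 3 → k) :
    w ∣ D u v (∑ i, c i • G i) := by
  rw [map_sum]
  refine Finset.dvd_sum fun i _ => ?_
  rw [map_smul, smul_eq_C_mul]
  exact (h i).mul_left _

/-- Three independent polynomials of small degree cannot have derivatives with many zeros. -/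
theorem no_net (u v : k[X]) (N α β : ℕ) (hN : N < α + β + 2) (p q : k) (hp : u.eval p ≠ 0)
    (hq : u.eval q ≠ 0) (G : Fin 3 → k[X]) (hdeg : ∀ i, (G i).natDegree ≤ N)
    (hind : ∀ c : Fin 3 → k, ∑ i, c i • G i = 0 → c = 0)
    (hdvd : ∀ i, (X - C p) ^ α * (X - C q) ^ β ∣ D u v (G i)) : False := by
  by_cases hpq : p = q
  · subst hpq
    obtain ⟨c, hc, h1, h2⟩ := exists_combination G (Polynomial.leval p) (Polynomial.lcoeff k (α + β + 1))
    refine hc (hind c ?_)
    have h3 : (X - C p) ^ (α + β + 1) ∣ ∑ i, c i • G i := by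
      refine dvd_of_dvd_D u v _ p hp h1 (α + β) ?_
      have := dvd_sum u v G _ hdvd c
      rwa [← pow_add] at this
    by_contra h4
    have h5 : (∑ i, c i • G i).natDegree = α + β + 1 := by
      apply le_antisymm
      · exact (natDegree_sum_le G N hdeg c).trans (by omega)
      · have := natDegree_le_of_dvd h3 h4
        rwa [natDegree_pow, natDegree_X_sub_C, mul_one] at this
    have h6 : (∑ i, c i • G i).coeff (α + β + 1) = 0 := h2
    rw [← h5, coeff_natDegree, leadingCoeff_eq_zero] at h6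
    exact h4 h6
  · obtain ⟨c, hc, h1, h2⟩ := exists_combination G (Polynomial.leval p) (Polynomial.leval q)
    refine hc (hind c ?_)
    have h0 := dvd_sum u v G _ hdvd c
    have h3 : (X - C p) ^ (α + 1) ∣ ∑ i, c i • G i :=
      dvd_of_dvd_D u v _ p hp h1 α ((dvd_mul_right _ _).trans h0)
    have h4 : (X - C q) ^ (β + 1) ∣ ∑ i, c i • G i :=
      dvd_of_dvd_D u v _ q hq h2 β ((dvd_mul_left _ _).trans h0)
    have hcop : IsCoprime ((X - C p) ^ (α + 1)) ((X - C q) ^ (β + 1)) := by
      refine IsCoprime.pow ?_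
      exact isCoprime_X_sub_C_of_isUnit_sub (sub_ne_zero.mpr hpq).isUnit
    by_contra h5
    have h6 := natDegree_le_of_dvd (hcop.mul_dvd h3 h4) h5
    rw [natDegree_mul (pow_ne_zero _ (X_sub_C_ne_zero p)) (pow_ne_zero _ (X_sub_C_ne_zero q)),
      natDegree_pow, natDegree_pow, natDegree_X_sub_C, natDegree_X_sub_C] at h6
    have h7 := natDegree_sum_le G N hdeg c
    omega

/-- Two independent elements with primitives, plus a constant, give three independent elements. -/
theorem indep_three (u v G₀ G₁ G₂ f₁ f₂ : k[X]) (h0 : G₀ ≠ 0) (hD0 : D u v G₀ = 0)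
    (h1 : D u v G₁ = f₁) (h2 : D u v G₂ = f₂)
    (hf : ∀ s t : k, s • f₁ + t • f₂ = 0 → s = 0 ∧ t = 0) (c : Fin 3 → k)
    (hc : ∑ i, c i • (![G₀, G₁, G₂] : Fin 3 → k[X]) i = 0) : c = 0 := by
  rw [Fin.sum_univ_three] at hc
  simp only [Matrix.cons_val_zero, Matrix.cons_val_one, Matrix.cons_val] at hc
  have h3 := congrArg (D u v) hc
  rw [map_add, map_add, map_smul, map_smul, map_smul, hD0, h1, h2, map_zero, smul_zero, zero_add] at h3
  obtain ⟨hs, ht⟩ := hf _ _ h3
  rw [hs, ht, zero_smul, zero_smul, add_zero, add_zero] at hc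
  have h4 : c 0 = 0 := by
    rcases smul_eq_zero.mp hc with h | h
    · exact h
    · exact absurd h h0
  funext i
  fin_cases i
  · exact h4
  · exact hs
  · exact ht

/-- From `2 ≤ finrank` extract two independent members. -/
theorem exists_pair {M : Type*} [AddCommGroup M] [Module k M] (W : Submodule k M)
    (h : 2 ≤ Module.finrank k W) :
    ∃ f₁ ∈ W, ∃ f₂ ∈ W, ∀ s t : k, s • f₁ + t • f₂ = 0 → s = 0 ∧ t = 0 := by
  have h1 : 1 < Module.finrank k W := by omega
  have : Nontrivial W := Module.nontrivial_of_finrank_pos (by omega : 0 < Module.finrank k W)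
  obtain ⟨x, hx⟩ := exists_ne (0 : W)
  obtain ⟨y, hy⟩ := exists_linearIndependent_pair_of_one_lt_finrank h1 hx
  refine ⟨x, x.2, y, y.2, fun s t hst => ?_⟩
  rw [LinearIndependent.pair_iff] at hy
  apply hy s t
  apply Subtype.ext
  simpa using hst

/-- From `1 ≤ finrank` extract a nonzero member. -/
theorem exists_nonzero {M : Type*} [AddCommGroup M] [Module k M] (W : Submodule k M)
    (h : 1 ≤ Module.finrank k W) : ∃ f₁ ∈ W, f₁ ≠ 0 := by
  have : Nontrivial W := Module.nontrivial_of_finrank_pos (by omega : 0 < Module.finrank k W)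
  obtain ⟨x, hx⟩ := exists_ne (0 : W)
  exact ⟨x, x.2, fun h => hx (Subtype.ext h)⟩

end K819.Wr
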