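import Mathlib.Algebra.Polynomial.Div
import Mathlib.Algebra.Polynomial.Derivative
import Mathlib.Algebra.Polynomial.RingDivision
import Mathlib.Algebra.CharZero.Defs
import Mathlib.RingTheory.Polynomial.Basic
import Mathlib.LinearAlgebra.FiniteDimensional.Lemmas
import Mathlib.LinearAlgebra.Dimension.RankNullity
import Mathlib.Tactic.LinearCombination
import Mathlib.Tactic.Ring
import Mathlib.Tactic.FieldSimp
import Mathlib.FieldTheory.Separable

set_option autoImplicit false

open Polynomial

namespace K819.Wr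

variable {k : Type*} [Field k] [CharZero k]

/-- If `p` is a zero of `G`, `u(p) ≠ 0` and `(X-p)^m` divides `u G' + v G` then `(X-p)^(m+1)`
divides `G`. -/
theorem dvd_of_dvd_D (u v G : k[X]) (p : k) (hu : u.eval p ≠ 0) (hG : G.eval p = 0) (m : ℕ)
    (h : (X - C p) ^ m ∣ u * derivative G + v * G) : (X - C p) ^ (m + 1) ∣ G := by
  induction m with
  | zero =>
    rw [zero_add, pow_one, dvd_iff_isRoot]
    exact hG
  | succ m ih =>
    obtain ⟨g, hg⟩ := ih ((pow_dvd_pow _ (Nat.le_succ m)).trans h)
    obtain ⟨w, hw⟩ := h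
    have hX : (X - C p) ^ (m + 1) ≠ 0 := pow_ne_zero _ (X_sub_C_ne_zero p)
    have hX' : (X - C p) ^ m ≠ 0 := pow_ne_zero _ (X_sub_C_ne_zero p)
    have h1 : (X - C p) ∣ u * (C ((m + 1 : ℕ) : k) * g) := by
      refine ⟨w - u * derivative g - v * g, ?_⟩
      apply mul_left_cancel₀ hX'
      rw [hg] at hw
      simp only [derivative_mul, derivative_X_sub_C_pow, Nat.add_sub_cancel] at hw
      linear_combination hw
    rw [dvd_iff_isRoot, IsRoot, eval_mul, eval_mul, eval_C] at h1
    have h2 : g.eval p = 0 := by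
      rcases mul_eq_zero.mp h1 with h3 | h3
      · exact absurd h3 hu
      · rcases mul_eq_zero.mp h3 with h4 | h4
        · exact absurd h4 (Nat.cast_ne_zero.mpr (Nat.succ_ne_zero m))
        · exact h4
    obtain ⟨g', hg'⟩ := dvd_iff_isRoot.mpr h2
    exact ⟨g', by rw [hg, hg']; ring⟩

/-- A nonzero combination of three polynomials killed by two functionals. -/
theorem exists_combination (G : Fin 3 → k[X]) (ℓ₁ ℓ₂ : k[X] →ₗ[k] k) :
    ∃ c : Fin 3 → k, c ≠ 0 ∧ ℓ₁ (∑ i, c i • G i) = 0 ∧ ℓ₂ (∑ i, c i • G i) = 0 := by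
  let s : (Fin 3 → k) →ₗ[k] k[X] := Fintype.linearCombination k G
  have hs : ∀ c, s c = ∑ i, c i • G i := fun c => rfl
  let φ : (Fin 3 → k) →ₗ[k] (k × k) := LinearMap.prod (ℓ₁ ∘ₗ s) (ℓ₂ ∘ₗ s)
  have hker : LinearMap.ker φ ≠ ⊥ := LinearMap.ker_ne_bot_of_finrank_lt (by simp)
  obtain ⟨c, hc, hc0⟩ := (Submodule.ne_bot_iff _).mp hker
  rw [LinearMap.mem_ker] at hc
  exact ⟨c, hc0, congrArg Prod.fst hc, congrArg Prod.snd hc⟩

/-- Solve `(X - c) G' - b G = g` for `deg g < n ≤ b`. -/
theorem exists_solve (c : k) (b : ℕ) (n : ℕ) (hn : n ≤ b) (g : k[X]) (hg : g.degree < n) :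
    ∃ G : k[X], G.degree < n ∧ (X - C c) * derivative G - (b : k[X]) * G = g := by
  induction n generalizing g with
  | zero =>
    refine ⟨0, by simp, ?_⟩
    have : g = 0 := by
      rw [← degree_eq_bot]
      have h1 : g.degree < 0 := by simpa using hg
      exact Nat.WithBot.lt_zero_iff.mp h1
    simp [this]
  | succ n ih =>
    have hnd : ((X - C c : k[X]) ^ n).natDegree = n := by
      rw [natDegree_pow, natDegree_X_sub_C, mul_one]
    let g' : k[X] := g - C (g.coeff n) * (X - C c) ^ n
    have hg' : g'.degree < n := by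
      rw [degree_lt_iff_coeff_zero]
      intro m hm
      simp only [g', coeff_sub, coeff_C_mul]
      rcases eq_or_lt_of_le hm with h1 | h1
      · subst h1
        have : ((X - C c : k[X]) ^ n).coeff n = 1 := by
          have hmon := (monic_X_sub_C c).pow n
          have := hmon.coeff_natDegree
          rwa [hnd] at this
        rw [this, mul_one, sub_self]
      · have h2 : g.coeff m = 0 := coeff_eq_zero_of_degree_lt (lt_of_lt_of_le hg (by exact_mod_cast h1))
        have h3 : ((X - C c : k[X]) ^ n).coeff m = 0 := by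
          apply coeff_eq_zero_of_natDegree_lt
          rw [hnd]; exact h1
        rw [h2, h3, mul_zero, sub_zero]
    obtain ⟨G', hG', hG''⟩ := ih (by omega) g' hg'
    have hnb : ((n : k) - (b : k)) ≠ 0 := by
      rw [sub_ne_zero]
      exact_mod_cast (by omega : n ≠ b)
    refine ⟨G' + C (g.coeff n / ((n : k) - b)) * (X - C c) ^ n, ?_, ?_⟩
    · refine lt_of_le_of_lt (degree_add_le _ _) (max_lt (hG'.trans (by exact_mod_cast n.lt_succ_self)) ?_)
      refine lt_of_le_of_lt (degree_le_of_natDegree_le (n := n) ?_) (by exact_mod_cast n.lt_succ_self)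
      exact (natDegree_C_mul_le _ _).trans hnd.le
    · have e1 : (X - C c) * derivative ((X - C c : k[X]) ^ n) = (n : k[X]) * (X - C c) ^ n := by
        cases n with
        | zero => simp
        | succ n =>
          rw [derivative_X_sub_C_pow, Nat.add_sub_cancel]
          simp only [map_natCast]
          ring
      have e2 : C (g.coeff n / ((n : k) - b)) * ((n : k[X]) - (b : k[X])) = C (g.coeff n) := by
        rw [← map_natCast C, ← map_natCast C, ← map_sub, ← map_mul, div_mul_cancel₀ _ hnb]
      rw [derivative_add, derivative_C_mul]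
      have e3 : g = g' + C (g.coeff n) * (X - C c) ^ n := by simp [g']
      conv_rhs => rw [e3, ← hG'', ← e2]
      linear_combination C (g.coeff n / ((n : k) - b)) * e1

end K819.Wr
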