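import Groth.Agent.W4c3wronskmg.K819.Prim

set_option autoImplicit false

open Polynomial

namespace K819.Wr

variable {k : Type*} [Field k] [CharZero k]

/-- Divisibility at a regular singular point of `D`, up to the kernel. -/
theorem exists_sub_ker (c : k) (e : ℕ) (u₁ v G₀ g₀ : k[X]) (hu : u₁.eval c ≠ 0)
    (hv : v.eval c = - (e : k) * u₁.eval c) (hG₀ : G₀ = (X - C c) ^ e * g₀) (hg₀ : g₀.eval c ≠ 0)
    (hD0 : D ((X - C c) * u₁) v G₀ = 0) (m : ℕ) (G : k[X])
    (h : (X - C c) ^ m ∣ D ((X - C c) * u₁) v G) :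
    ∃ t : k, (X - C c) ^ m ∣ G - t • G₀ := by
  induction m with
  | zero => exact ⟨0, by simp⟩
  | succ m ih =>
    obtain ⟨t, g, hg⟩ := ih ((pow_dvd_pow _ (Nat.le_succ m)).trans h)
    by_cases hme : m = e
    · subst hme
      -- adjust `t`
      refine ⟨t + g.eval c / g₀.eval c, ?_⟩
      have h1 : (X - C c) ∣ g - C (g.eval c / g₀.eval c) * g₀ := by
        rw [dvd_iff_isRoot, IsRoot, eval_sub, eval_mul, eval_C, div_mul_cancel₀ _ hg₀, sub_self]
      obtain ⟨w, hw⟩ := h1
      refine ⟨w, ?_⟩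
      rw [add_smul, ← sub_sub, hg, smul_eq_C_mul, hG₀, pow_succ]
      linear_combination (X - C c) ^ m * hw
    · refine ⟨t, ?_⟩
      obtain ⟨w, hw⟩ := h
      have hX : (X - C c) ^ m ≠ 0 := pow_ne_zero _ (X_sub_C_ne_zero c)
      have hDG : D ((X - C c) * u₁) v G = D ((X - C c) * u₁) v ((X - C c) ^ m * g) := by
        rw [← hg, map_sub, map_smul, hD0, smul_zero, sub_zero]
      have e1 : (X - C c) * derivative ((X - C c : k[X]) ^ m) = (m : k[X]) * (X - C c) ^ m := by
        cases m with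
        | zero => simp
        | succ n =>
          rw [derivative_X_sub_C_pow, Nat.add_sub_cancel]
          simp only [map_natCast]
          ring
      have h2 : (X - C c) ∣ ((m : k[X]) * u₁ + v) * g := by
        refine ⟨w - u₁ * derivative g, ?_⟩
        apply mul_left_cancel₀ hX
        rw [hDG, D_apply, derivative_mul] at hw
        linear_combination hw - u₁ * g * e1
      rw [dvd_iff_isRoot, IsRoot, eval_mul, eval_add, eval_mul, hv, eval_natCast] at h2
      have h3 : g.eval c = 0 := by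
        rcases mul_eq_zero.mp h2 with h4 | h4
        · exfalso
          have h5 : ((m : k) - e) * u₁.eval c = 0 := by linear_combination h4
          rcases mul_eq_zero.mp h5 with h6 | h6
          · rw [sub_eq_zero] at h6
            exact hme (by exact_mod_cast h6)
          · exact hu h6
        · exact h4
      obtain ⟨g', hg'⟩ := dvd_iff_isRoot.mpr h3
      exact ⟨g', by rw [hg, hg']; ring⟩

/-- The case of order at most the exponent. -/
theorem dvd_of_le (c : k) (e : ℕ) (u₁ v G₀ g₀ : k[X]) (hu : u₁.eval c ≠ 0)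
    (hv : v.eval c = - (e : k) * u₁.eval c) (hG₀ : G₀ = (X - C c) ^ e * g₀) (hg₀ : g₀.eval c ≠ 0)
    (hD0 : D ((X - C c) * u₁) v G₀ = 0) (m : ℕ) (hm : m ≤ e) (G : k[X])
    (h : (X - C c) ^ m ∣ D ((X - C c) * u₁) v G) :
    (X - C c) ^ m ∣ G := by
  obtain ⟨t, ht⟩ := exists_sub_ker c e u₁ v G₀ g₀ hu hv hG₀ hg₀ hD0 m G h
  have h1 : (X - C c) ^ m ∣ t • G₀ := by
    rw [smul_eq_C_mul, hG₀]
    exact ((pow_dvd_pow _ hm).mul_right _).mul_left _
  have := dvd_add ht h1
  rwa [sub_add_cancel] at this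

variable (k) in
/-- the operator of S16260 -/
noncomputable abbrev Dab (a b : ℕ) : k[X] →ₗ[k] k[X] :=
  D (X * (X - 1)) ((a : k[X]) - ((a + b : ℕ) : k[X]) * X)

theorem zero_sub_ker (a b m : ℕ) (G : k[X]) (h : (X : k[X]) ^ m ∣ Dab k a b G) :
    ∃ t : k, (X : k[X]) ^ m ∣ G - t • (X ^ a * (X - 1) ^ b) := by
  have h1 := exists_sub_ker (0 : k) a (X - 1) ((a : k[X]) - ((a + b : ℕ) : k[X]) * X)
    (X ^ a * (X - 1) ^ b) ((X - 1) ^ b) (by simp) (by simp) (by simp) (by simp)
    (by simpa using D_ker (k := k) a b) m G (by simpa [Dab] using h)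
  simpa using h1

theorem zero_dvd_of_le (a b m : ℕ) (hm : m ≤ a) (G : k[X]) (h : (X : k[X]) ^ m ∣ Dab k a b G) :
    (X : k[X]) ^ m ∣ G := by
  have h1 := dvd_of_le (0 : k) a (X - 1) ((a : k[X]) - ((a + b : ℕ) : k[X]) * X)
    (X ^ a * (X - 1) ^ b) ((X - 1) ^ b) (by simp) (by simp) (by simp) (by simp)
    (by simpa using D_ker (k := k) a b) m hm G (by simpa [Dab] using h)
  simpa using h1

theorem one_sub_ker (a b m : ℕ) (G : k[X]) (h : ((X : k[X]) - 1) ^ m ∣ Dab k a b G) :
    ∃ t : k, ((X : k[X]) - 1) ^ m ∣ G - t • (X ^ a * (X - 1) ^ b) := by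
  have h1 := exists_sub_ker (1 : k) b X ((a : k[X]) - ((a + b : ℕ) : k[X]) * X)
    (X ^ a * (X - 1) ^ b) (X ^ a) (by simp) (by simp) (by simp [mul_comm]) (by simp)
    (by simpa [mul_comm] using D_ker (k := k) a b) m G (by simpa [Dab, mul_comm] using h)
  simpa using h1

end K819.Wr
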